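import Mathlib
import Cfsg.Agent.LieClassical.OrthSimple
import Cfsg.Agent.LieClassical.OrthFinite

/-!
# Similarity embeddings of quadratic spaces and the induced embeddings of `E Q'` in `E Q`

`Emb Q Q'` : an embedding `j : V' → V` with `Q (j x) = c Q' x`, together with the adjoint projection `π : V → V'`.
`ext : GL(V') →* GL(V)` : extension by the identity on the orthogonal complement; it maps `E Q'` into `E Q`.
-/

set_option autoImplicit false

namespace Cfsg.Agent.GenOrth

open QuadraticMap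
open Cfsg.Agent.LieClassical.OrthCore Cfsg.Agent.LieClassical.OrthTrans

variable {F V V' : Type*} [Field F] [AddCommGroup V] [Module F V] [AddCommGroup V'] [Module F V']

/-- A similarity embedding of quadratic spaces with its adjoint projection. -/
structure Emb (Q : QuadraticForm F V) (Q' : QuadraticForm F V') where
  /-- the embedding -/
  j : V' →ₗ[F] V
  /-- the projection -/
  π : V →ₗ[F] V'
  /-- the factor -/
  c : F
  hc : c ≠ 0
  hQ : ∀ x, Q (j x) = c * Q' x
  adj : ∀ x v, polar Q (j x) v = c * polar Q' x (π v)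
  nd : Nondeg Q'

namespace Emb

variable {Q : QuadraticForm F V} {Q' : QuadraticForm F V'} (e : Emb Q Q')

theorem polar_j (x y : V') : polar Q (e.j x) (e.j y) = c e * polar Q' x y := by
  simp only [polar, ← map_add, e.hQ]
  ring

theorem π_j (x : V') : e.π (e.j x) = x := by
  have h : e.π (e.j x) - x = 0 := by
    apply e.nd
    intro y
    have h1 := e.adj y (e.j x)
    rw [e.polar_j] at h1
    have h2 := mul_left_cancel₀ e.hc h1
    rw [polar_sub_left, polar_comm Q' _ y, ← h2, polar_comm Q' x y, sub_self]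
  exact sub_eq_zero.1 h

theorem j_injective : Function.Injective e.j := fun x y h => by rw [← e.π_j x, h, e.π_j]

/-- the extension of `g` by the identity on the orthogonal complement of the image of `j` -/
def extFun (g : V' ≃ₗ[F] V') (v : V) : V := v + e.j (g (e.π v) - e.π v)

theorem π_extFun (g : V' ≃ₗ[F] V') (v : V) : e.π (e.extFun g v) = g (e.π v) := by
  unfold extFun
  rw [map_add, e.π_j]
  abel

/-- the linear map -/
def extLin (g : V' ≃ₗ[F] V') : V →ₗ[F] V where
  toFun := e.extFun g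
  map_add' v w := by
    unfold extFun
    simp only [map_add, map_sub]
    abel
  map_smul' a v := by
    unfold extFun
    simp only [map_smul, map_sub, smul_sub, smul_add, RingHom.id_apply]

theorem extFun_mul (g h : V' ≃ₗ[F] V') (v : V) : e.extFun (g * h) v = e.extFun g (e.extFun h v) := by
  have h1 := e.π_extFun h v
  unfold extFun at h1 ⊢
  rw [h1]
  have h2 : (g * h) (e.π v) = g (h (e.π v)) := rfl
  rw [h2]
  simp only [map_sub]
  abel

theorem extFun_one (v : V) : e.extFun 1 v = v := by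
  unfold extFun
  have h2 : (1 : V' ≃ₗ[F] V') (e.π v) = e.π v := rfl
  rw [h2, sub_self, map_zero, add_zero]

/-- The homomorphism `GL(V') →* GL(V)`. -/
def ext : (V' ≃ₗ[F] V') →* (V ≃ₗ[F] V) :=
  (LinearMap.GeneralLinearGroup.generalLinearEquiv F V).toMonoidHom.comp
    (MonoidHom.toHomUnits
      { toFun := e.extLin
        map_one' := LinearMap.ext fun v => e.extFun_one v
        map_mul' := fun g h => LinearMap.ext fun v => e.extFun_mul g h v })

theorem ext_apply (g : V' ≃ₗ[F] V') (v : V) : e.ext g v = v + e.j (g (e.π v) - e.π v) := rfl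

theorem π_ext (g : V' ≃ₗ[F] V') (v : V) : e.π (e.ext g v) = g (e.π v) := e.π_extFun g v

theorem ext_j (g : V' ≃ₗ[F] V') (x : V') : e.ext g (e.j x) = e.j (g x) := by
  rw [ext_apply, e.π_j, map_sub]
  abel

theorem ext_of_π_eq_zero (g : V' ≃ₗ[F] V') {v : V} (hv : e.π v = 0) : e.ext g v = v := by
  rw [ext_apply, hv, map_zero, sub_zero, map_zero, add_zero]

theorem ext_injective : Function.Injective e.ext := by
  rw [injective_iff_map_eq_one]
  intro g hg
  ext x
  apply e.j_injective
  rw [← e.ext_j, hg]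
  rfl

theorem ext_siegel {u w : V'} (hu : Q' u = 0) (hw : polar Q' u w = 0)
    (hu' : Q (e.j u) = 0) (hw' : polar Q (e.j u) (e.c⁻¹ • e.j w) = 0) :
    e.ext (siegel Q' u w hu hw) = siegel Q (e.j u) (e.c⁻¹ • e.j w) hu' hw' := by
  ext v
  rw [ext_apply, siegel_apply, siegel_apply, e.adj, polar_smul_left, e.adj, QuadraticMap.map_smul, e.hQ]
  simp only [map_sub, map_add, map_smul, smul_smul, smul_eq_mul]
  have hc := e.hc
  match_scalars
  · ring
  · ring
  · field_simp
  · field_simp

theorem ext_mem_E {g : V' ≃ₗ[F] V'} (hg : g ∈ E Q') : e.ext g ∈ E Q := by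
  have h1 : E Q' ≤ (E Q).comap e.ext := by
    rw [E, Subgroup.closure_le]
    rintro _ ⟨u, w, hu, hw, rfl⟩
    have hu' : Q (e.j u) = 0 := by rw [e.hQ, hu, mul_zero]
    have hw' : polar Q (e.j u) (e.c⁻¹ • e.j w) = 0 := by
      rw [polar_smul_right, e.polar_j, hw, mul_zero, smul_zero]
    show e.ext (siegel Q' u w hu hw) ∈ E Q
    rw [e.ext_siegel hu hw hu' hw']
    exact siegel_mem_E _ _
  exact h1 hg

/-- `ext` as a homomorphism `E Q' →* E Q`. -/
def extE : E Q' →* E Q := (e.ext.comp (E Q').subtype).codRestrict (E Q) fun g => e.ext_mem_E g.2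

theorem extE_coe (g : E Q') : (e.extE g : V ≃ₗ[F] V) = e.ext g := rfl

theorem extE_injective : Function.Injective e.extE := by
  intro g h hgh
  apply Subtype.ext
  apply e.ext_injective
  rw [← e.extE_coe, hgh, e.extE_coe]

/-! ### The involution -/

/-- `t` acts as `ε` on the image of `j` and as `-ε` on its orthogonal complement. -/
def IsInv (ε : F) (t : V ≃ₗ[F] V) : Prop := ∀ v, t v = ε • ((2 : F) • e.j (e.π v) - v)

variable {e} {ε : F} {t : V ≃ₗ[F] V}

theorem IsInv.π (ht : e.IsInv ε t) (v : V) : e.π (t v) = ε • e.π v := by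
  rw [ht v, map_smul, map_sub, map_smul, e.π_j]
  module

theorem IsInv.sq (ht : e.IsInv ε t) (hε : ε * ε = 1) : t * t = 1 := by
  ext v
  show t (t v) = v
  rw [ht (t v), ht.π, ht v, map_smul]
  have : ε • ((2 : F) • ε • e.j (e.π v) - ε • ((2 : F) • e.j (e.π v) - v)) = (ε * ε) • v := by module
  rw [this, hε, one_smul]

theorem IsInv.comm (ht : e.IsInv ε t) (g : V' ≃ₗ[F] V') : e.ext g * t = t * e.ext g := by
  ext v
  show e.ext g (t v) = t (e.ext g v)
  rw [ext_apply, ht (e.ext g v), e.π_ext, ht.π, ext_apply, ht v, map_smul]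
  simp only [map_sub, map_smul]
  module

theorem IsInv.of_comm (h2 : (2 : F) ≠ 0) (hε : ε * ε = 1) (ht : e.IsInv ε t) {g : V ≃ₗ[F] V}
    (hg : g * t = t * g) (v : V) : g (e.j (e.π v)) = e.j (e.π (g v)) := by
  have h1 : g (t v) = t (g v) := congrArg (fun x : V ≃ₗ[F] V => x v) hg
  rw [ht v, ht (g v), map_smul, map_sub, map_smul] at h1
  have hε0 : ε ≠ 0 := left_ne_zero_of_mul_eq_one hε
  have h3 := smul_right_injective V hε0 h1
  have h4 : (2 : F) • g (e.j (e.π v)) = (2 : F) • e.j (e.π (g v)) := by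
    have := congrArg (fun x => x + g v) h3
    simpa using this
  exact smul_right_injective V h2 h4

theorem IsInv.of_anti (h2 : (2 : F) ≠ 0) (hε : ε * ε = 1) (ht : e.IsInv ε t) {g : V ≃ₗ[F] V}
    (hg : ∀ v, g (t v) = - t (g v)) (v : V) : g (e.j (e.π v)) = g v - e.j (e.π (g v)) := by
  have h1 := hg v
  rw [ht v, ht (g v), map_smul, map_sub, map_smul, ← smul_neg] at h1
  have hε0 : ε ≠ 0 := left_ne_zero_of_mul_eq_one hε
  have h3 := smul_right_injective V hε0 h1
  have h4 : (2 : F) • g (e.j (e.π v)) = (2 : F) • (g v - e.j (e.π (g v))) := by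
    have := congrArg (fun x => x + g v) h3
    rw [smul_sub]
    simp only [sub_add_cancel] at this
    rw [this]
    module
  exact smul_right_injective V h2 h4

/-- the restriction to `V'` of an isometry commuting with the projector -/
theorem exists_restrict {g : V ≃ₗ[F] V} (hgO : g ∈ O Q) (hg : ∀ v, g (e.j (e.π v)) = e.j (e.π (g v))) :
    ∃ g' : V' ≃ₗ[F] V', g' ∈ O Q' ∧ (∀ x, g (e.j x) = e.j (g' x)) ∧ ∀ v, e.π (g v) = g' (e.π v) := by
  have hgi : ∀ v, g.symm (e.j (e.π v)) = e.j (e.π (g.symm v)) := by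
    intro v
    have h1 := hg (g.symm v)
    rw [LinearEquiv.apply_symm_apply] at h1
    rw [← h1, LinearEquiv.symm_apply_apply]
  have h1 : ∀ x, e.j (e.π (g (e.j x))) = g (e.j x) := fun x => by rw [← hg, e.π_j]
  have h1' : ∀ x, e.j (e.π (g.symm (e.j x))) = g.symm (e.j x) := fun x => by rw [← hgi, e.π_j]
  let g' : V' ≃ₗ[F] V' := LinearEquiv.ofLinearMap (e.π ∘ₗ g.toLinearMap ∘ₗ e.j) (e.π ∘ₗ g.symm.toLinearMap ∘ₗ e.j)
    (by
      ext x
      show e.π (g (e.j (e.π (g.symm (e.j x))))) = x
      rw [h1', LinearEquiv.apply_symm_apply, e.π_j])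
    (by
      ext x
      show e.π (g.symm (e.j (e.π (g (e.j x))))) = x
      rw [h1, LinearEquiv.symm_apply_apply, e.π_j])
  have hg' : ∀ x, g (e.j x) = e.j (g' x) := fun x => (h1 x).symm
  refine ⟨g', ?_, hg', ?_⟩
  · intro x
    have h2 : Q (g (e.j x)) = Q (e.j x) := mem_O.1 hgO _
    rw [hg', e.hQ, e.hQ] at h2
    exact mul_left_cancel₀ e.hc h2
  · intro v
    apply e.j_injective
    rw [← hg, hg']

/-- conjugation by an isometry commuting with the projector -/
theorem conj_ext {g : V ≃ₗ[F] V} {g' : V' ≃ₗ[F] V'} (h1 : ∀ x, g (e.j x) = e.j (g' x))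
    (h2 : ∀ v, e.π (g v) = g' (e.π v)) (h : V' ≃ₗ[F] V') : g * e.ext h * g⁻¹ = e.ext (g' * h * g'⁻¹) := by
  rw [mul_inv_eq_iff_eq_mul]
  ext v
  show g (e.ext h v) = e.ext (g' * h * g'⁻¹) (g v)
  rw [ext_apply, ext_apply, h2, map_add, h1]
  have h3 : (g' * h * g'⁻¹) (g' (e.π v)) = g' (h (e.π v)) := by
    show g' (h (g'.symm (g' (e.π v)))) = _
    rw [LinearEquiv.symm_apply_apply]
  rw [h3, map_sub g']

/-- If `g` anticommutes with the involution, the conjugate of `ext h` commutes with `ext h'`. -/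
theorem comm_of_anti {g : V ≃ₗ[F] V} (hg : ∀ v, g (e.j (e.π v)) = g v - e.j (e.π (g v)))
    (h h' : V' ≃ₗ[F] V') : g * e.ext h * g⁻¹ * e.ext h' = e.ext h' * (g * e.ext h * g⁻¹) := by
  have k1 : ∀ x, e.π (g (e.j x)) = 0 := by
    intro x
    have h1 := hg (e.j x)
    rw [e.π_j] at h1
    have h2 : e.j (e.π (g (e.j x))) = 0 := by
      have := congrArg (fun y => y - g (e.j x)) h1
      simpa using this
    apply e.j_injective
    rw [h2, map_zero]
  have k2 : ∀ x, e.π (g.symm (e.j x)) = 0 := by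
    intro x
    have h1 := hg (g.symm (e.j x))
    rw [LinearEquiv.apply_symm_apply, e.π_j, sub_self] at h1
    have h2 : e.j (e.π (g.symm (e.j x))) = 0 := by
      apply g.injective
      rw [h1, map_zero]
    apply e.j_injective
    rw [h2, map_zero]
  have k3 : ∀ v, (g * e.ext h * g⁻¹) v = v + g (e.j (h (e.π (g.symm v)) - e.π (g.symm v))) := by
    intro v
    show g (e.ext h (g.symm v)) = _
    rw [ext_apply, map_add, LinearEquiv.apply_symm_apply]
  ext v
  show (g * e.ext h * g⁻¹) (e.ext h' v) = e.ext h' ((g * e.ext h * g⁻¹) v)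
  rw [k3, k3, ext_apply, ext_apply]
  have k4 : e.π (g.symm (v + e.j (h' (e.π v) - e.π v))) = e.π (g.symm v) := by
    rw [map_add, map_add, k2, add_zero]
  have k5 : e.π (v + g (e.j (h (e.π (g.symm v)) - e.π (g.symm v)))) = e.π v := by
    rw [map_add, k1, add_zero]
  rw [k4, k5]
  abel

end Emb

end Cfsg.Agent.GenOrth
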