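import Mathlib
import Cfsg.Agent.GenOrth.Emb
import Cfsg.Agent.LieClassical.QuadForms
import Cfsg.Agent.LieClassical.OrthForms

/-!
# Normal forms of nondegenerate quadratic forms over finite fields of odd characteristic; `Emb` from a similarity

* `Split`, `splitEquiv` : splitting off a plane;
* `normal_form` : up to a factor, a nondegenerate form over a finite field of odd characteristic is `quadFormOdd`,
  `quadFormPlus` or `quadFormMinus`;
* `ofLin` : a similarity embedding of a nondegenerate finite dimensional space is an `Emb`.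
-/

set_option autoImplicit false

namespace Cfsg.Agent.GenOrth

open QuadraticMap
open Cfsg.Agent.LieClassical.OrthCore Cfsg.Agent.LieClassical.OrthTrans

section Split

variable {F V : Type*} [Field F] [AddCommGroup V] [Module F V] {Q : QuadraticForm F V}

/-- `V = W ⊕ ⟨x, y⟩` with coordinate functionals `α`, `β`, `W = ker α ∩ ker β` orthogonal to `x`, `y`. -/
structure Split (Q : QuadraticForm F V) (x y : V) (α β : V →ₗ[F] F) : Prop where
  ax : α x = 1
  ay : α y = 0
  bx : β x = 0
  bY : β y = 1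
  px : ∀ v, α v = 0 → β v = 0 → polar Q x v = 0
  py : ∀ v, α v = 0 → β v = 0 → polar Q y v = 0

/-- the complement -/
def Comp (α β : V →ₗ[F] F) : Submodule F V := LinearMap.ker α ⊓ LinearMap.ker β

theorem mem_Comp {α β : V →ₗ[F] F} {v : V} : v ∈ Comp α β ↔ α v = 0 ∧ β v = 0 := by
  rw [Comp, Submodule.mem_inf, LinearMap.mem_ker, LinearMap.mem_ker]

variable {x y : V} {α β : V →ₗ[F] F}

/-- the decomposition -/
def splitEquiv (h : Split Q x y α β) : (Comp α β × F × F) ≃ₗ[F] V where
  toFun p := (p.1 : V) + p.2.1 • x + p.2.2 • y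
  invFun v := (⟨v - α v • x - β v • y, mem_Comp.2 ⟨by
    simp only [map_sub, map_smul, h.ax, h.ay, smul_eq_mul]; ring, by
    simp only [map_sub, map_smul, h.bx, h.bY, smul_eq_mul]; ring⟩⟩, α v, β v)
  map_add' p p' := by
    simp only [Prod.fst_add, Prod.snd_add, Submodule.coe_add]
    module
  map_smul' c p := by
    simp only [Prod.smul_fst, Prod.smul_snd, Submodule.coe_smul, RingHom.id_apply, smul_add, smul_smul, smul_eq_mul]
  left_inv p := by
    obtain ⟨⟨w, hw⟩, a, b⟩ := p
    obtain ⟨h1, h2⟩ := mem_Comp.1 hw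
    have e1 : α (w + a • x + b • y) = a := by simp [h1, h.ax, h.ay]
    have e2 : β (w + a • x + b • y) = b := by simp [h2, h.bx, h.bY]
    refine Prod.ext (Subtype.ext ?_) (Prod.ext e1 e2)
    show w + a • x + b • y - α (w + a • x + b • y) • x - β (w + a • x + b • y) • y = w
    rw [e1, e2]
    abel
  right_inv v := by
    show v - α v • x - β v • y + α v • x + β v • y = v
    abel

theorem splitEquiv_apply (h : Split Q x y α β) (w : Comp α β) (a b : F) :
    splitEquiv h (w, a, b) = (w : V) + a • x + b • y := rfl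

theorem Q_splitEquiv (h : Split Q x y α β) (w : Comp α β) (a b : F) :
    Q (splitEquiv h (w, a, b)) = Q (w : V) + a * a * Q x + b * b * Q y + a * b * polar Q x y := by
  obtain ⟨h1, h2⟩ := mem_Comp.1 w.2
  have p1 := h.px _ h1 h2
  have p2 := h.py _ h1 h2
  have p1' : polar Q (w : V) x = 0 := by rw [polar_comm]; exact p1
  have p2' : polar Q (w : V) y = 0 := by rw [polar_comm]; exact p2
  rw [splitEquiv_apply, Q_add, Q_add, QuadraticMap.map_smul, QuadraticMap.map_smul, polar_add_left,
    polar_smul_right, polar_smul_right, polar_smul_right, polar_smul_left, p1', p2']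
  simp only [smul_eq_mul]
  ring

/-- the restriction of the form -/
abbrev restr (Q : QuadraticForm F V) (α β : V →ₗ[F] F) : QuadraticForm F (Comp α β) := Q.comp (Comp α β).subtype

theorem restr_apply (w : Comp α β) : restr Q α β w = Q (w : V) := rfl

theorem polar_restr (w w' : Comp α β) : polar (restr Q α β) w w' = polar Q (w : V) (w' : V) := by
  simp only [polar, restr_apply, Submodule.coe_add]

theorem nondeg_restr (hQ : Nondeg Q) (h : Split Q x y α β) : Nondeg (restr Q α β) := by
  intro w hw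
  apply Subtype.ext
  apply hQ
  intro v
  obtain ⟨⟨w', a, b⟩, rfl⟩ := (splitEquiv h).surjective v
  obtain ⟨h1, h2⟩ := mem_Comp.1 w.2
  have p1' : polar Q (w : V) x = 0 := by rw [polar_comm]; exact h.px _ h1 h2
  have p2' : polar Q (w : V) y = 0 := by rw [polar_comm]; exact h.py _ h1 h2
  have h3 := hw w'
  rw [polar_restr] at h3
  rw [splitEquiv_apply, polar_add_right, polar_add_right, polar_smul_right, polar_smul_right, p1', p2', h3]
  simp

theorem finrank_Comp [Module.Finite F V] (h : Split Q x y α β) :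
    Module.finrank F (Comp α β) + 2 = Module.finrank F V := by
  have h1 := (splitEquiv h).finrank_eq
  rw [Module.finrank_prod, Module.finrank_prod, Module.finrank_self] at h1
  omega

/-- splitting off a hyperbolic plane -/
theorem split_of_hyp (h : Hyp Q x y) : Split Q x y (polarBilin Q y) (polarBilin Q x) where
  ax := h.pair'
  ay := polar_self_of_sing h.right
  bx := polar_self_of_sing h.left
  bY := h.pair
  px _ _ h2 := h2
  py _ h1 _ := h1

/-- splitting off two orthogonal anisotropic vectors -/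
theorem split_of_perp (h2 : (2 : F) ≠ 0) (hx : Q x ≠ 0) (hy : Q y ≠ 0) (hxy : polar Q x y = 0) :
    Split Q x y ((2 * Q x)⁻¹ • polarBilin Q x) ((2 * Q y)⁻¹ • polarBilin Q y) where
  ax := by
    show (2 * Q x)⁻¹ * polar Q x x = 1
    rw [polar_self', inv_mul_cancel₀ (mul_ne_zero h2 hx)]
  ay := by
    show (2 * Q x)⁻¹ * polar Q x y = 0
    rw [hxy, mul_zero]
  bx := by
    show (2 * Q y)⁻¹ * polar Q y x = 0
    rw [polar_comm, hxy, mul_zero]
  bY := by
    show (2 * Q y)⁻¹ * polar Q y y = 1
    rw [polar_self', inv_mul_cancel₀ (mul_ne_zero h2 hy)]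
  px v h1 _ := by
    have h3 : (2 * Q x)⁻¹ * polar Q x v = 0 := h1
    exact (mul_eq_zero.1 h3).resolve_left (inv_ne_zero (mul_ne_zero h2 hx))
  py v _ h1 := by
    have h3 : (2 * Q y)⁻¹ * polar Q y v = 0 := h1
    exact (mul_eq_zero.1 h3).resolve_left (inv_ne_zero (mul_ne_zero h2 hy))

theorem hyp_of_sing (hQ : Nondeg Q) (hx0 : x ≠ 0) (hx : Q x = 0) : ∃ y, Hyp Q x y := by
  obtain ⟨y, hy⟩ : ∃ y, polar Q x y ≠ 0 := by
    by_contra h0
    push Not at h0
    exact hx0 (hQ x h0)
  obtain ⟨z, hz⟩ : ∃ z, z = (polar Q x y)⁻¹ • y := ⟨_, rfl⟩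
  have h1 : polar Q x z = 1 := by rw [hz, polar_smul_right, smul_eq_mul, inv_mul_cancel₀ hy]
  refine ⟨z - Q z • x, hx, ?_, ?_⟩
  · rw [sub_eq_add_neg, Q_add, QuadraticMap.map_neg, QuadraticMap.map_smul, hx, polar_neg_right, polar_smul_right,
      polar_comm Q z x, h1]
    simp
  · rw [polar_sub_right, polar_smul_right, h1, polar_self_of_sing hx, smul_zero, sub_zero]

theorem exists_hyp_of_nondeg [Finite F] (hQ : Nondeg Q) (hd : 3 ≤ Module.finrank F V) : ∃ x y : V, Hyp Q x y := by
  obtain ⟨w, hw0, hw, -⟩ := Cfsg.Agent.LieClassical.OrthFinite.exists_sing_perp (Q := Q) (n := 0) ![] (by omega)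
  obtain ⟨y, hy⟩ := hyp_of_sing hQ hw0 hw
  exact ⟨w, y, hy⟩

end Split

section Normal

variable {F : Type*} [Field F]

/-- `Q` is, up to a linear equivalence and a nonzero factor, the function `q`. -/
def Sim {V : Type*} [AddCommGroup V] [Module F V] (Q : QuadraticForm F V) {ι : Type} (q : (ι → F) → F) : Prop :=
  ∃ c : F, c ≠ 0 ∧ ∃ j : (ι → F) ≃ₗ[F] V, ∀ x, Q (j x) = c * q x

theorem sim_step {V : Type*} [AddCommGroup V] [Module F V] {Q : QuadraticForm F V} {x y : V} (h : Hyp Q x y)
    {ι ι' : Type} {q : (ι → F) → F} {q' : (ι' → F) → F}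
    (hs : Sim (restr Q (polarBilin Q y) (polarBilin Q x)) q)
    (st : ((ι → F) × F × F) ≃ₗ[F] (ι' → F)) (hst : ∀ w a b, q' (st (w, a, b)) = q w + a * b) : Sim Q q' := by
  obtain ⟨c, hc, j, hj⟩ := hs
  refine ⟨c, hc, st.symm.trans ((j.prodCongr ((LinearEquiv.smulOfNeZero F F c hc).prodCongr
    (LinearEquiv.refl F F))).trans (splitEquiv (split_of_hyp h))), fun v => ?_⟩
  obtain ⟨⟨w, a, b⟩, rfl⟩ := st.surjective v
  have e : (st.symm.trans ((j.prodCongr ((LinearEquiv.smulOfNeZero F F c hc).prodCongr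
    (LinearEquiv.refl F F))).trans (splitEquiv (split_of_hyp h)))) (st (w, a, b)) =
      splitEquiv (split_of_hyp h) (j w, c * a, b) := by
    simp only [LinearEquiv.trans_apply, LinearEquiv.symm_apply_apply]
    rfl
  rw [e, Q_splitEquiv, h.left, h.right, h.pair, hst, ← restr_apply, hj]
  ring

/-- anisotropic binary form -/
def Aniso (a b : F) : Prop := ∀ z₁ z₂ : F, z₁ ^ 2 + a * z₁ * z₂ + b * z₂ ^ 2 = 0 → z₁ = 0 ∧ z₂ = 0

/-- the three normal forms -/
def NF {V : Type*} [AddCommGroup V] [Module F V] (Q : QuadraticForm F V) (n : ℕ) : Prop :=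
  (∃ k, n = 2 * k + 1 ∧ Sim Q (Cfsg.quadFormOdd k F)) ∨ (∃ k, n = 2 * k ∧ Sim Q (Cfsg.quadFormPlus k F)) ∨
    (∃ k, n = 2 * k + 2 ∧ ∃ a b : F, Aniso a b ∧ Sim Q (Cfsg.quadFormMinus k F a b))

theorem NF.step {V : Type*} [AddCommGroup V] [Module F V] {Q : QuadraticForm F V} {x y : V} (h : Hyp Q x y) {n : ℕ}
    (hs : NF (restr Q (polarBilin Q y) (polarBilin Q x)) n) : NF Q (n + 2) := by
  rcases hs with ⟨k, hk, hs⟩ | ⟨k, hk, hs⟩ | ⟨k, hk, a, b, hab, hs⟩
  · refine Or.inl ⟨k + 1, by omega, sim_step h hs (LieClassical.QuadForms.oddStep k F) fun w c d => ?_⟩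
    rw [← LieClassical.QuadForms.coe_oddForm, ← LieClassical.QuadForms.coe_oddForm]
    exact LieClassical.QuadForms.oddForm_oddStep k w c d
  · refine Or.inr (Or.inl ⟨k + 1, by omega, sim_step h hs (LieClassical.QuadForms.plusStep k F) fun w c d => ?_⟩)
    rw [← LieClassical.QuadForms.coe_plusForm, ← LieClassical.QuadForms.coe_plusForm]
    exact LieClassical.QuadForms.plusForm_plusStep k w c d
  · refine Or.inr (Or.inr ⟨k + 1, by omega, a, b, hab,
      sim_step h hs (LieClassical.QuadForms.minusStep k F) fun w c d => ?_⟩)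
    rw [← LieClassical.QuadForms.coe_minusForm, ← LieClassical.QuadForms.coe_minusForm]
    exact LieClassical.QuadForms.minusForm_minusStep k a b w c d

theorem nf_zero {V : Type*} [AddCommGroup V] [Module F V] [Module.Finite F V] {Q : QuadraticForm F V}
    (hd : Module.finrank F V = 0) : NF Q 0 := by
  have : Subsingleton V := Module.finrank_zero_iff.1 hd
  refine Or.inr (Or.inl ⟨0, rfl, 1, one_ne_zero, ?_⟩)
  refine ⟨LinearEquiv.ofSubsingleton _ _, fun x => ?_⟩
  have h1 : x = 0 := Subsingleton.elim _ _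
  rw [h1, map_zero, QuadraticMap.map_zero, one_mul, ← LieClassical.QuadForms.coe_plusForm, QuadraticMap.map_zero]

theorem nf_one {V : Type*} [AddCommGroup V] [Module F V] [Module.Finite F V] {Q : QuadraticForm F V} (hQ : Nondeg Q)
    (hd : Module.finrank F V = 1) : NF Q 1 := by
  obtain ⟨v, hv0, hv⟩ := finrank_eq_one_iff'.1 hd
  have hv1 : Q v ≠ 0 := by
    intro h0
    apply hv0
    apply hQ
    intro w
    obtain ⟨c, rfl⟩ := hv w
    rw [polar_smul_right, polar_self_of_sing h0, smul_zero]
  refine Or.inl ⟨0, rfl, Q v, hv1, ?_⟩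
  let g : (Unit ⊕ (Fin 0 ⊕ Fin 0) → F) →ₗ[F] V := (LinearMap.proj (Sum.inl ())).smulRight v
  have hg : Function.Injective g := by
    rw [← LinearMap.ker_eq_bot, LinearMap.ker_eq_bot']
    intro m hm
    have h1 : m (Sum.inl ()) = 0 := (smul_eq_zero.1 hm).resolve_right hv0
    funext i
    rcases i with i | i
    · exact h1
    · exact (isEmptyElim i : False).elim
  have hg' : Function.Surjective g := by
    intro w
    obtain ⟨c, rfl⟩ := hv w
    exact ⟨fun _ => c, rfl⟩
  refine ⟨LinearEquiv.ofBijective g ⟨hg, hg'⟩, fun x => ?_⟩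
  show Q (x (Sum.inl ()) • v) = _
  rw [QuadraticMap.map_smul, smul_eq_mul, ← LieClassical.QuadForms.coe_oddForm, LieClassical.QuadForms.oddForm_apply]
  have h1 : (fun i => x (Sum.inr i)) = (0 : Fin 0 ⊕ Fin 0 → F) := Subsingleton.elim _ _
  rw [h1, QuadraticMap.map_zero]
  ring

theorem nf_two {V : Type*} [AddCommGroup V] [Module F V] [Module.Finite F V] {Q : QuadraticForm F V} (hQ : Nondeg Q)
    (hd : Module.finrank F V = 2) : NF Q 2 := by
  by_cases hs : ∃ x : V, x ≠ 0 ∧ Q x = 0
  · obtain ⟨x, hx0, hx⟩ := hs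
    obtain ⟨y, h⟩ := hyp_of_sing hQ hx0 hx
    have h1 := finrank_Comp (split_of_hyp h)
    have h2 : Module.finrank F (Comp (polarBilin Q y) (polarBilin Q x)) = 0 := by omega
    exact NF.step h (nf_zero h2)
  · push Not at hs
    let bs := Module.finBasisOfFinrankEq F V hd
    have hne : ∀ i, Q (bs i) ≠ 0 := fun i => hs _ (bs.ne_zero i)
    refine Or.inr (Or.inr ⟨0, rfl, polar Q (bs 0) (bs 1) / Q (bs 0), Q (bs 1) / Q (bs 0), ?_, Q (bs 0), hne 0, ?_⟩)
    · intro z w hzw
      have h0 := hne 0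
      have h1 : Q (z • bs 0 + w • bs 1) = 0 := by
        rw [Q_add, QuadraticMap.map_smul, QuadraticMap.map_smul, polar_smul_left, polar_smul_right]
        simp only [smul_eq_mul]
        field_simp at hzw
        linear_combination hzw
      have h2 : z • bs 0 + w • bs 1 = 0 := by
        by_contra h3
        exact hs _ h3 h1
      have h3 := Fintype.linearIndependent_iff.1 bs.linearIndependent ![z, w] (by
        rw [Fin.sum_univ_two]; exact h2)
      exact ⟨h3 0, h3 1⟩
    · let r : ((Fin 0 ⊕ Fin 0) ⊕ Fin 2 → F) ≃ₗ[F] (Fin 2 → F) :=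
        LinearEquiv.funCongrLeft F F (Equiv.emptySum (Fin 0 ⊕ Fin 0) (Fin 2)).symm
      refine ⟨r.trans bs.equivFun.symm, fun x => ?_⟩
      have e : (r.trans bs.equivFun.symm) x = x (Sum.inr 0) • bs 0 + x (Sum.inr 1) • bs 1 := by
        show bs.equivFun.symm (r x) = _
        rw [Module.Basis.equivFun_symm_apply, Fin.sum_univ_two]
        rfl
      rw [e, Q_add, QuadraticMap.map_smul, QuadraticMap.map_smul, polar_smul_left, polar_smul_right,
        ← LieClassical.OrthForms.coe_minusForm, LieClassical.OrthForms.coe_minusForm,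
        LieClassical.OrthForms.quadFormMinus_apply]
      have h0 := hne 0
      simp only [Finset.univ_eq_empty, Finset.sum_empty, smul_eq_mul]
      field_simp
      ring

theorem normal_form [Finite F] : ∀ (n : ℕ) {V : Type*} [AddCommGroup V] [Module F V] [Module.Finite F V]
    {Q : QuadraticForm F V}, Nondeg Q → Module.finrank F V = n → NF Q n := by
  intro n
  induction n using Nat.strong_induction_on with
  | _ n ih =>
    intro V _ _ _ Q hQ hd
    match n, hd, ih with
    | 0, hd, _ => exact nf_zero hd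
    | 1, hd, _ => exact nf_one hQ hd
    | 2, hd, _ => exact nf_two hQ hd
    | n + 3, hd, ih =>
      obtain ⟨x, y, h⟩ := exists_hyp_of_nondeg hQ (by omega)
      have h1 := finrank_Comp (split_of_hyp h)
      exact NF.step h (ih (n + 1) (by omega) (nondeg_restr hQ (split_of_hyp h)) (by omega))

/-- a sum of `k` hyperbolic planes embeds -/
theorem exists_hyps [Finite F] : ∀ (k : ℕ) {V : Type*} [AddCommGroup V] [Module F V] [Module.Finite F V]
    {Q : QuadraticForm F V}, Nondeg Q → 2 * k + 1 ≤ Module.finrank F V →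
    ∃ j : (Fin k ⊕ Fin k → F) →ₗ[F] V, ∀ x, Q (j x) = Cfsg.quadFormPlus k F x := by
  intro k
  induction k with
  | zero =>
    intro V _ _ _ Q _ _
    refine ⟨0, fun x => ?_⟩
    have h1 : x = 0 := Subsingleton.elim _ _
    rw [h1, map_zero, QuadraticMap.map_zero, ← LieClassical.QuadForms.coe_plusForm, QuadraticMap.map_zero]
  | succ k ih =>
    intro V _ _ _ Q hQ hd
    obtain ⟨x, y, h⟩ := exists_hyp_of_nondeg hQ (by omega)
    have h1 := finrank_Comp (split_of_hyp h)
    obtain ⟨j, hj⟩ := ih (nondeg_restr hQ (split_of_hyp h)) (by omega)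
    refine ⟨(splitEquiv (split_of_hyp h)).toLinearMap ∘ₗ (j.prodMap LinearMap.id) ∘ₗ
      (LieClassical.QuadForms.plusStep k F).symm.toLinearMap, fun v => ?_⟩
    obtain ⟨⟨w, a, b⟩, rfl⟩ := (LieClassical.QuadForms.plusStep k F).surjective v
    have e : ((splitEquiv (split_of_hyp h)).toLinearMap ∘ₗ (j.prodMap LinearMap.id) ∘ₗ
      (LieClassical.QuadForms.plusStep k F).symm.toLinearMap) ((LieClassical.QuadForms.plusStep k F) (w, a, b)) =
        splitEquiv (split_of_hyp h) (j w, a, b) := by
      simp only [LinearMap.comp_apply, LinearEquiv.coe_coe, LinearEquiv.symm_apply_apply]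
      rfl
    rw [e, Q_splitEquiv, h.left, h.right, h.pair, ← restr_apply, hj, ← LieClassical.QuadForms.coe_plusForm,
      ← LieClassical.QuadForms.coe_plusForm, LieClassical.QuadForms.plusForm_plusStep]
    ring

end Normal

section OfLin

variable {F V V' : Type*} [Field F] [AddCommGroup V] [Module F V] [AddCommGroup V'] [Module F V']
  [Module.Finite F V'] {Q : QuadraticForm F V} {Q' : QuadraticForm F V'}

theorem polarBilin_injective (nd : Nondeg Q') : Function.Injective (polarBilin Q') := by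
  rw [← LinearMap.ker_eq_bot, LinearMap.ker_eq_bot']
  intro m hm
  apply nd
  intro y
  exact LinearMap.congr_fun hm y

/-- the isomorphism with the dual -/
noncomputable def dualEquiv (nd : Nondeg Q') : V' ≃ₗ[F] Module.Dual F V' :=
  LinearMap.linearEquivOfInjective (polarBilin Q') (polarBilin_injective nd) Subspace.dual_finrank_eq.symm

theorem dualEquiv_symm (nd : Nondeg Q') (f : Module.Dual F V') (x : V') :
    polar Q' x ((dualEquiv nd).symm f) = f x := by
  rw [polar_comm]
  have h : (dualEquiv nd) ((dualEquiv nd).symm f) = f := LinearEquiv.apply_symm_apply _ _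
  exact LinearMap.congr_fun h x

/-- a similarity embedding is an `Emb` -/
noncomputable def ofLin (j : V' →ₗ[F] V) (c : F) (hc : c ≠ 0) (hQ : ∀ x, Q (j x) = c * Q' x) (nd : Nondeg Q') :
    Emb Q Q' where
  j := j
  π := (dualEquiv nd).symm.toLinearMap ∘ₗ (c⁻¹ • ((polarBilin Q).compl₁₂ j LinearMap.id).flip)
  c := c
  hc := hc
  hQ := hQ
  adj x v := by
    show polar Q (j x) v = c * polar Q' x ((dualEquiv nd).symm ((c⁻¹ • ((polarBilin Q).compl₁₂ j LinearMap.id).flip) v))
    rw [dualEquiv_symm]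
    show polar Q (j x) v = c * (c⁻¹ * polar Q (j x) v)
    rw [← mul_assoc, mul_inv_cancel₀ hc, one_mul]
  nd := nd

end OfLin

end Cfsg.Agent.GenOrth
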