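import Mathlib
import Cfsg.Agent.GenOrth.Main

/-!
# The 2-rank of `E Q / Z(E Q)` is at least three
-/

set_option autoImplicit false

namespace Cfsg.Agent.GenOrth

open QuadraticMap Cfsg Subgroup
open Cfsg.Agent.LieClassical.OrthCore Cfsg.Agent.LieClassical.OrthTrans Cfsg.Agent.LieClassical.OrthSimple
open Cfsg.Agent.TitsThree.KSideO

variable {F V : Type*} [Field F] [AddCommGroup V] [Module F V] {Q : QuadraticForm F V}

/-- the images of the four-group generators under a homomorphism which is injective on the elements fixing `v₀` -/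
theorem rank_of_four_hom (hG : Good Q) (h2 : (2 : F) ≠ 0) {x : Fin 4 → V} (h : Four Q x) {H : Type*} [Group H]
    (φ : E Q →* H) {v₀ : V} (hv : ∀ i, polar Q (x i) v₀ = 0)
    (hφ : ∀ g : E Q, (g : V ≃ₗ[F] V) v₀ = v₀ → φ g = 1 → g = 1) : PRankAtLeast 2 3 H := by
  have hx0 : ∀ i, x i ≠ 0 := by
    intro i h0
    have := h.one i
    rw [h0, QuadraticMap.map_zero] at this
    exact zero_ne_one this
  have hm : ∀ i, refl Q (x i) (h.ne i) * refl Q (x 0) (h.ne 0) ∈ E Q := fun i =>
    hG.refl_mul_refl_mem (h.ne 0) (h.ne i) (by rw [h.one, h.one])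
  obtain ⟨r, hr⟩ : ∃ r : Fin 4 → (V ≃ₗ[F] V), r = fun i => refl Q (x i) (h.ne i) := ⟨_, rfl⟩
  have hri : ∀ i, refl Q (x i) (h.ne i) = r i := fun i => by rw [hr]
  have hsq : ∀ i, r i * r i = 1 := fun i => by rw [hr]; exact refl_mul_self _
  have hcm : ∀ i j, r i * r j = r j * r i := by
    intro i j
    by_cases hij : i = j
    · rw [hij]
    · rw [hr]; exact refl_comm _ _ (h.perp i j hij)
  have hs : ∀ i, r i (x i) = -x i := fun i => by rw [hr]; exact refl_self _
  have hp : ∀ i j, i ≠ j → r i (x j) = x j := fun i j hij => by rw [hr]; exact refl_perp _ (h.perp i j hij)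
  have hv' : ∀ i, r i v₀ = v₀ := fun i => by rw [hr]; exact refl_perp _ (hv i)
  simp only [hri] at hm
  let a : Fin 4 → E Q := fun i => ⟨r i * r 0, hm i⟩
  have hsq' : ∀ i, a i * a i = 1 := by
    intro i
    apply Subtype.ext
    show r i * r 0 * (r i * r 0) = 1
    calc r i * r 0 * (r i * r 0) = r i * (r 0 * r i) * r 0 := by group
      _ = r i * (r i * r 0) * r 0 := by rw [hcm]
      _ = (r i * r i) * (r 0 * r 0) := by group
      _ = 1 := by rw [hsq, hsq, one_mul]
  have hcm' : ∀ i j, a i * a j = a j * a i := by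
    intro i j
    apply Subtype.ext
    show r i * r 0 * (r j * r 0) = r j * r 0 * (r i * r 0)
    calc r i * r 0 * (r j * r 0) = r i * (r 0 * r j) * r 0 := by group
      _ = r i * (r j * r 0) * r 0 := by rw [hcm 0 j]
      _ = (r i * r j) * (r 0 * r 0) := by group
      _ = (r j * r i) * (r 0 * r 0) := by rw [hcm]
      _ = r j * (r i * r 0) * r 0 := by group
      _ = r j * (r 0 * r i) * r 0 := by rw [hcm i 0]
      _ = r j * r 0 * (r i * r 0) := by group
  have ha_s : ∀ i, i ≠ 0 → (a i : V ≃ₗ[F] V) (x i) = -x i := by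
    intro i hi
    show r i (r 0 (x i)) = _
    rw [hp 0 i (Ne.symm hi), hs]
  have ha_p : ∀ i j, j ≠ 0 → i ≠ j → (a i : V ≃ₗ[F] V) (x j) = x j := by
    intro i j hj hij
    show r i (r 0 (x j)) = _
    rw [hp 0 j (Ne.symm hj), hp i j hij]
  have ha_v : ∀ i, (a i : V ≃ₗ[F] V) v₀ = v₀ := by
    intro i
    show r i (r 0 v₀) = _
    rw [hv', hv']
  let f : Fin 4 → ZMod 2 → E Q := fun i u => if u = 0 then 1 else a i
  have hf : ∀ i u v, f i (u + v) = f i u * f i v := by
    intro i u v
    have hu : u = 0 ∨ u = 1 := by revert u; decide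
    have hv : v = 0 ∨ v = 1 := by revert v; decide
    have h11 : (1 : ZMod 2) + 1 = 0 := by decide
    have h10 : (1 : ZMod 2) ≠ 0 := by decide
    rcases hu with rfl | rfl <;> rcases hv with rfl | rfl <;> simp only [f, add_zero, zero_add, h11, h10, if_true, if_false, one_mul, mul_one]
    exact (hsq' i).symm
  have hfc : ∀ i j u v, f i u * f j v = f j v * f i u := by
    intro i j u v
    simp only [f]
    split_ifs
    · simp
    · simp
    · simp
    · exact hcm' i j
  have hfv : ∀ i u, (f i u : V ≃ₗ[F] V) v₀ = v₀ := by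
    intro i u
    simp only [f]
    split_ifs
    · rfl
    · exact ha_v i
  have hne : ∀ i, -x i ≠ x i := by
    intro i h0
    have h3 : (2 : F) • x i = 0 := by
      rw [two_smul]
      nth_rewrite 1 [← h0]
      abel
    rcases smul_eq_zero.1 h3 with h4 | h4
    · exact h2 h4
    · exact hx0 i h4
  have h1' : (1 : Fin 4) ≠ 0 := by decide
  have h2' : (2 : Fin 4) ≠ 0 := by decide
  have h3' : (3 : Fin 4) ≠ 0 := by decide
  have val : ∀ i j (u : ZMod 2), j ≠ 0 → i ≠ j → (f i u : V ≃ₗ[F] V) (x j) = x j := by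
    intro i j u hj hij
    simp only [f]
    split_ifs
    · rfl
    · exact ha_p i j hj hij
  have vas : ∀ i (u : ZMod 2), i ≠ 0 → (f i u : V ≃ₗ[F] V) (x i) = x i → u = 0 := by
    intro i u hi hu
    by_contra h0
    simp only [f, if_neg h0] at hu
    rw [ha_s i hi] at hu
    exact hne i hu
  have hf' : ∀ i u v, φ (f i (u + v)) = φ (f i u) * φ (f i v) := fun i u v => by rw [hf, map_mul]
  have hfc' : ∀ i j u v, φ (f i u) * φ (f j v) = φ (f j v) * φ (f i u) := fun i j u v => by
    rw [← map_mul, hfc, map_mul]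
  refine RankThreeTwo.Base.of_mul_three (V := ZMod 2) (by decide) ?_ (fun u => φ (f 1 u)) (fun u => φ (f 2 u))
    (fun u => φ (f 3 u)) (hf' 1) (hf' 2) (hf' 3) (hfc' 1 2) (hfc' 1 3) (hfc' 2 3) ?_
  · rw [Nat.card_zmod]
  · intro u v w huvw
    have huvw' : φ (f 1 u * f 2 v * f 3 w) = 1 := by
      rw [map_mul, map_mul]
      exact huvw
    have huvw := hφ (f 1 u * f 2 v * f 3 w) (by
      show (f 1 u : V ≃ₗ[F] V) ((f 2 v : V ≃ₗ[F] V) ((f 3 w : V ≃ₗ[F] V) v₀)) = v₀
      rw [hfv, hfv, hfv]) huvw'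
    have key : ∀ y, (f 1 u : V ≃ₗ[F] V) ((f 2 v : V ≃ₗ[F] V) ((f 3 w : V ≃ₗ[F] V) y)) = y := by
      intro y
      have := congrArg (fun g : E Q => (g : V ≃ₗ[F] V) y) huvw
      exact this
    refine ⟨?_, ?_, ?_⟩
    · have := key (x 1)
      rw [val 3 1 w h1' (by decide), val 2 1 v h1' (by decide)] at this
      exact vas 1 u h1' this
    · have := key (x 2)
      rw [val 3 2 w h2' (by decide)] at this
      by_contra hv
      have h5 : (f 2 v : V ≃ₗ[F] V) (x 2) = -x 2 := by
        simp only [f, if_neg hv]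
        exact ha_s 2 h2'
      rw [h5, map_neg, val 1 2 u h2' (by decide)] at this
      exact hne 2 this
    · have := key (x 3)
      by_contra hw
      have h5 : (f 3 w : V ≃ₗ[F] V) (x 3) = -x 3 := by
        simp only [f, if_neg hw]
        exact ha_s 3 h3'
      rw [h5, map_neg, map_neg, val 2 3 v h3' (by decide), val 1 3 u h3' (by decide)] at this
      exact hne 3 this

/-- a nonzero vector orthogonal to four vectors, in dimension at least five -/
theorem exists_perp_four (x : Fin 4 → V) (hd : 5 ≤ Module.finrank F V) :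
    ∃ v : V, v ≠ 0 ∧ ∀ i, polar Q (x i) v = 0 := by
  let f : V →ₗ[F] (Fin 4 → F) := LinearMap.pi fun i => polarBilin Q (x i)
  have : Module.Finite F V := Module.finite_of_finrank_pos (by omega)
  have h1 := LinearMap.ker_ne_bot_of_finrank_lt (f := f) (by rw [Module.finrank_fin_fun]; omega)
  obtain ⟨v, hv, hv0⟩ := Submodule.exists_mem_ne_zero_of_ne_bot h1
  refine ⟨v, hv0, fun i => ?_⟩
  exact congrFun (LinearMap.mem_ker.1 hv) i

theorem rank_three_quot [Finite F] (hG : Good Q) (h2 : (2 : F) ≠ 0) :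
    PRankAtLeast 2 3 (E Q ⧸ center ↥(E Q)) := by
  obtain ⟨x, y, z, w, h⟩ := Good.exists_two hG
  obtain ⟨a, b, hab⟩ := exists_sq_add_sq (F := F) h2
  have h4 := four_of_two h hab
  obtain ⟨v₀, hv0, hv⟩ := exists_perp_four (Q := Q) (fourVec x y z w a b) hG.dim
  refine rank_of_four_hom hG h2 h4 (QuotientGroup.mk' (center ↥(E Q))) hv ?_
  intro g hg h1
  have h3 : g ∈ center ↥(E Q) := (QuotientGroup.eq_one_iff g).1 h1
  obtain ⟨c, hc⟩ := scalar_of_center hG h3
  have hc' : ∀ v, (g : V ≃ₗ[F] V) v = c • v := hc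
  have h5 : c = 1 := by
    have h6 : (c - 1) • v₀ = 0 := by rw [sub_smul, one_smul, ← hc', hg, sub_self]
    exact sub_eq_zero.1 ((smul_eq_zero.1 h6).resolve_right hv0)
  apply Subtype.ext
  ext1 v
  rw [hc', h5, one_smul]
  rfl

end Cfsg.Agent.GenOrth
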